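import Groth.Agent.Fga.PathLemma

/-!
# A walk in the positive cone

`quadrant`: `h0, h2, χ : ℤ → ℤ → ℤ` are the functions `(a, b) ↦ h⁰, h², χ` of `M^a ⊗ N^b` on an integral surface with
`M² > 0`, `M N ≥ 0`, `N² > 0`, and `M` effective; then some positive power of `N` is effective.
-/

set_option autoImplicit false

namespace Groth.Agent.K278.ConePath

open Groth.Agent.Fga.PathLemma

theorem large (f : ℤ → ℤ → ℤ) (P Q R : ℤ) (hP : 0 < P) (hQ : 0 ≤ Q) (hR : 0 < R)
    (hP' : ∀ a b, f (a + 2) b - 2 * f (a + 1) b + f a b = P)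
    (hQ' : ∀ a b, f (a + 1) (b + 1) - f (a + 1) b - f a (b + 1) + f a b = Q)
    (hR' : ∀ a b, f a (b + 2) - 2 * f a (b + 1) + f a b = R) (K : ℤ) :
    ∃ n : ℤ, 0 < n ∧ ∀ a b : ℤ, 0 ≤ a → a ≤ n → 0 ≤ b → b ≤ n → (a = n ∨ b = n) → K < f a b := by
  set U : ℤ := 2 * (f 1 0 - f 0 0) - P with hU
  set V : ℤ := 2 * (f 0 1 - f 0 0) - R with hV
  set W : ℤ := 2 * f 0 0 with hW
  have hf : ∀ a b, 2 * f a b = P * (a * a) + 2 * Q * (a * b) + R * (b * b) + U * a + V * b + W := by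
    intro a b
    rw [quadratic_of_second_differences f P Q R hP' hQ' hR' a b]
    ring
  refine ⟨|U| + |V| + |W| + 2 * |K| + 1, by positivity, ?_⟩
  intro a b ha ha' hb hb' hab
  set n : ℤ := |U| + |V| + |W| + 2 * |K| + 1 with hn
  have hn1 : 1 ≤ n := by
    have h1 := abs_nonneg U
    have h2 := abs_nonneg V
    have h3 := abs_nonneg W
    have h4 := abs_nonneg K
    linarith
  have h1 : n * n ≤ P * (a * a) + R * (b * b) := by
    rcases hab with rfl | rfl
    · have h2 : n * n ≤ P * (n * n) := by nlinarith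
      have h3 : 0 ≤ R * (b * b) := mul_nonneg hR.le (mul_self_nonneg b)
      linarith
    · have h2 : n * n ≤ R * (n * n) := by nlinarith
      have h3 : 0 ≤ P * (a * a) := mul_nonneg hP.le (mul_self_nonneg a)
      linarith
  have h2 : 0 ≤ 2 * Q * (a * b) := by positivity
  have h3 : -(|U| * n) ≤ U * a := by
    have h4 : |U * a| ≤ |U| * n := by
      rw [abs_mul, abs_of_nonneg ha]
      exact mul_le_mul_of_nonneg_left ha' (abs_nonneg _)
    exact (abs_le.mp h4).1
  have h4 : -(|V| * n) ≤ V * b := by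
    have h5 : |V * b| ≤ |V| * n := by
      rw [abs_mul, abs_of_nonneg hb]
      exact mul_le_mul_of_nonneg_left hb' (abs_nonneg _)
    exact (abs_le.mp h5).1
  have h5 : -(|W| * n) ≤ W := by
    have h6 : -|W| ≤ W := neg_abs_le W
    have h7 : |W| * 1 ≤ |W| * n := mul_le_mul_of_nonneg_left hn1 (abs_nonneg _)
    linarith
  have h6 : n * n - (|U| + |V| + |W|) * n ≤ 2 * f a b := by
    rw [hf a b]
    linarith
  have h7 : n * n - (|U| + |V| + |W|) * n = (2 * |K| + 1) * n := by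
    rw [hn]
    ring
  have h8 : 2 * K < (2 * |K| + 1) * n := by
    have h9 : K ≤ |K| := le_abs_self K
    have h10 := abs_nonneg K
    nlinarith
  rw [h7] at h6
  linarith

/-- Walking from `(n, 0)` through `(n, n)` to `(0, n)`. -/
theorem quadrant (h0 h2 χ : ℤ → ℤ → ℤ) (K P Q R : ℤ)
    (hχ : ∀ a b, χ a b ≤ h0 a b + h2 a b)
    (hstep : ∀ a b a' b', |a - a'| + |b - b'| = 1 → 0 < h0 a b → h2 a' b' ≤ K)
    (hstart : ∀ n : ℤ, 0 < n → 0 < h0 n 0)
    (hP : ∀ a b, χ (a + 2) b - 2 * χ (a + 1) b + χ a b = P)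
    (hQ : ∀ a b, χ (a + 1) (b + 1) - χ (a + 1) b - χ a (b + 1) + χ a b = Q)
    (hR : ∀ a b, χ a (b + 2) - 2 * χ a (b + 1) + χ a b = R)
    (hPpos : 0 < P) (hQpos : 0 ≤ Q) (hRpos : 0 < R) : ∃ n : ℕ, 0 < n ∧ 0 < h0 0 n := by
  obtain ⟨n, hn, hlarge⟩ := large χ P Q R hPpos hQpos hRpos hP hQ hR K
  obtain ⟨N, rfl⟩ := Int.eq_ofNat_of_zero_le hn.le
  have step : ∀ a b a' b' : ℤ, |a - a'| + |b - b'| = 1 → 0 < h0 a b → 0 ≤ a' → a' ≤ N → 0 ≤ b' → b' ≤ N →
      (a' = N ∨ b' = N) → 0 < h0 a' b' := by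
    intro a b a' b' h1 h3 h4 h5 h6 h7 h8
    have e1 := hstep a b a' b' h1 h3
    have e2 := hlarge a' b' h4 h5 h6 h7 h8
    have e3 := hχ a' b'
    linarith
  have up : ∀ j : ℕ, (j : ℤ) ≤ N → 0 < h0 N j := by
    intro j
    induction j with
    | zero => intro _; simpa using hstart N hn
    | succ j ih =>
      intro hj
      push_cast at hj ⊢
      exact step N j N (j + 1) (by simp) (ih (by linarith)) hn.le le_rfl (by positivity) hj (Or.inl rfl)
  have left : ∀ j : ℕ, (j : ℤ) ≤ N → 0 < h0 (N - j) N := by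
    intro j
    induction j with
    | zero => intro _; simpa using up N le_rfl
    | succ j ih =>
      intro hj
      push_cast at hj ⊢
      exact step (N - j) N (N - (j + 1)) N (by simp) (ih (by linarith)) (by linarith) (by linarith) hn.le le_rfl
        (Or.inr rfl)
  refine ⟨N, by exact_mod_cast hn, ?_⟩
  have h1 := left N le_rfl
  rwa [sub_self] at h1

end Groth.Agent.K278.ConePath
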